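import Groth.Agent.DispRig.Lift
import Mathlib

/-! Injectivity of base change and torsion-freeness of display homomorphisms. -/

set_option autoImplicit false
set_option maxSynthPendingDepth 3

universe u v w

namespace Groth.Agent.DispRig

open WittVector

variable {p : ℕ} [Fact p.Prime] {S : Type u} [CommRing S]
variable {P : Type v} [AddCommGroup P] [Module (WittVector p S) P] {P' : Type v} [AddCommGroup P']
  [Module (WittVector p S) P']

theorem map_eq_of_eq {R : Type u} [CommRing R] (hp : IsNilpotent (p : S)) (f : S →+* R) (hf : Function.Surjective f)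
    (hker : IsNilpotent (RingHom.ker f)) {D : W4c1extbt610.Display3n p S P} {D' : W4c1extbt610.Display3n p S P'}
    (hD : Dieu.IsDisplay D) (ψ χ : P →ₗ[WittVector p S] P') (hψ : W4c1extbt610.IsHom D D' ψ)
    (hχ : W4c1extbt610.IsHom D D' χ)
    (h : Dieu.BC.map (WittVector.map f : WittVector p S →+* WittVector p R) ψ =
      Dieu.BC.map (WittVector.map f : WittVector p S →+* WittVector p R) χ) : ψ = χ := by
  have hQ : ∀ q ∈ D.Q, (ψ - χ) q ∈ D'.Q := fun q hq => D'.Q.sub_mem (hψ.mapsTo q hq) (hχ.mapsTo q hq)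
  refine sub_eq_zero.1 (rigid hp (RingHom.ker f) hker D' hD (ψ - χ) hQ (fun q => ?_) fun x => ?_)
  · rw [LinearMap.sub_apply, hψ.comm_Vinv, hχ.comm_Vinv, ← map_sub]
    rfl
  · have h1 : Dieu.BC.ι (WittVector.map f : WittVector p S →+* WittVector p R) P' ((ψ - χ) x) = 0 := by
      have h2 := DFunLike.congr_fun h (Dieu.BC.ι _ P x)
      rw [Dieu.BC.map, Dieu.BC.map, Dieu.BC.lift_ι, Dieu.BC.lift_ι, LinearMap.comp_apply, LinearMap.comp_apply] at h2
      rw [LinearMap.sub_apply, map_sub, h2, sub_self]
    have hc : RingHom.ker (WittVector.map (p := p) f) ≤ WI (RingHom.ker f) := fun z hz => mem_WI.2 fun n => by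
      have := congrArg (fun w => WittVector.coeff w n) (RingHom.mem_ker.1 hz)
      simpa [WittVector.map_coeff] using this
    exact Submodule.smul_mono hc le_rfl ((ι_eq_zero_iff _ (WittVector.map_surjective f hf) _).1 h1)

theorem eq_zero_of_p_smul (hp : IsNilpotent (p : S)) (hn : IsNilpotent (nilradical S))
    {D : W4c1extbt610.Display3n p S P} (D' : W4c1extbt610.Display3n p S P') (hD : Dieu.IsDisplay D)
    (ψ : P →ₗ[WittVector p S] P') (hψ : W4c1extbt610.IsHom D D' ψ) (h : (p : WittVector p S) • ψ = 0) : ψ = 0 := by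
  refine rigid hp (nilradical S) hn D' hD ψ hψ.mapsTo hψ.comm_Vinv fun x => ?_
  haveI := D'.finite
  haveI := D'.projective
  obtain ⟨n, π', s, -, -, hs⟩ := Module.Finite.exists_comp_eq_id_of_projective (WittVector p S) P'
  rw [← sum_repr π' s hs (ψ x)]
  refine Submodule.sum_mem _ fun i _ => Submodule.smul_mem_smul (mem_WI.2 ?_) trivial
  have hz : (p : WittVector p S) * s (ψ x) i = 0 := by
    rw [← smul_eq_mul, ← Pi.smul_apply, ← map_smul, ← LinearMap.smul_apply, h, LinearMap.zero_apply, map_zero, Pi.zero_apply]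
  intro k
  set z := s (ψ x) i
  haveI : IsReduced (S ⧸ nilradical S) := (Ideal.isRadical_iff_quotient_reduced _).1 (Ideal.radical_isRadical _)
  rcases subsingleton_or_nontrivial (S ⧸ nilradical S) with hT | hT
  · exact Ideal.Quotient.eq_zero_iff_mem.1 (Subsingleton.elim _ _)
  haveI : CharP (S ⧸ nilradical S) p := (CharP.charP_iff_prime_eq_zero (Fact.out : p.Prime)).2 (by
    rw [← map_natCast (Ideal.Quotient.mk (nilradical S)), Ideal.Quotient.eq_zero_iff_mem]
    exact mem_nilradical.2 hp)
  have hz' : (p : WittVector p (S ⧸ nilradical S)) * WittVector.map (Ideal.Quotient.mk (nilradical S)) z = 0 := by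
    rw [← map_natCast (WittVector.map (p := p) (Ideal.Quotient.mk (nilradical S))), ← map_mul, hz, map_zero]
  have hk := congrArg (fun w => WittVector.coeff w (k + 1)) hz'
  rw [mul_comm, ← frobenius_verschiebung] at hk
  simp only [coeff_frobenius_charP, verschiebung_coeff_succ, WittVector.zero_coeff, WittVector.map_coeff] at hk
  exact Ideal.Quotient.eq_zero_iff_mem.1 (IsNilpotent.eq_zero ⟨p, hk⟩)

end Groth.Agent.DispRig
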