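import Mathlib
import Groth.Prelude.Def_Disp2

/-! Exactness of `M → W(R) ⊗ M ⇉ W(R ⊗ R) ⊗ M` for flat `W(S)`-modules `M` and `S → R` faithfully flat. -/

set_option autoImplicit false

open TensorProduct WittVector

universe u v w

noncomputable section

namespace Groth.Agent.DispRig

theorem castHom_eq_of_eq {A : Type u} {B : Type v} [CommRing A] [CommRing B] {g g' k : A →+* B} {P : Type w}
    [AddCommGroup P] [Module A P] (h1 : g = k) (h2 : g' = k) (a : Dieu.BC g P) (b : Dieu.BC g' P)
    (h : Dieu.BC.castHom h1 a = Dieu.BC.castHom h2 b) : Dieu.BC.castHom (h1.trans h2.symm) a = b := by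
  subst h1 h2
  exact h

variable {p : ℕ} [Fact p.Prime] {S R : Type u} [CommRing S] [CommRing R] [Algebra S R]

local notation "φ" => (WittVector.map (algebraMap S R) : WittVector p S →+* WittVector p R)
local notation "j₁" => (WittVector.map (Algebra.TensorProduct.includeLeftRingHom : R →+* TensorProduct S R R) :
  WittVector p R →+* WittVector p (TensorProduct S R R))
local notation "j₂" => (WittVector.map ((Algebra.TensorProduct.includeRight : R →ₐ[S] TensorProduct S R R) :
  R →+* TensorProduct S R R) : WittVector p R →+* WittVector p (TensorProduct S R R))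

/-- `W(S) → W(R)` as a linear map into `Res`. -/
def wLin : WittVector p S →ₗ[WittVector p S] Dieu.Res φ where
  toFun a := Dieu.Res.mk φ (φ a)
  map_add' a b := by rw [map_add, Dieu.Res.mk_add]
  map_smul' a b := by rw [RingHom.id_apply, Dieu.Res.smul_mk, smul_eq_mul, map_mul]

/-- The difference of the two coprojections as a linear map between the `Res` modules. -/
def wDiff (e : RingHom.comp j₁ φ = RingHom.comp j₂ φ) :
    Dieu.Res φ →ₗ[WittVector p S] Dieu.Res (RingHom.comp j₂ φ) where
  toFun t := Dieu.Res.mk _ (j₁ t.val - j₂ t.val)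
  map_add' s t := by
    apply Dieu.Res.ext
    rw [Dieu.Res.val_add, Dieu.Res.val_mk, Dieu.Res.val_add, Dieu.Res.val_mk, Dieu.Res.val_mk,
      map_add, map_add]
    ring
  map_smul' a t := by
    apply Dieu.Res.ext
    rw [RingHom.id_apply, Dieu.Res.val_smul, Dieu.Res.val_mk, Dieu.Res.val_smul, Dieu.Res.val_mk,
      map_mul, map_mul, mul_sub, ← RingHom.comp_apply j₁ φ a, e]
    rfl

theorem algebraMap_injective_of_ff [Module.FaithfullyFlat S R] : Function.Injective (algebraMap S R) :=
  FaithfulSMul.algebraMap_injective S R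

theorem wLin_injective [Module.FaithfullyFlat S R] : Function.Injective (wLin : _ →ₗ[_] Dieu.Res φ) := by
  intro a b h
  exact WittVector.map_injective _ algebraMap_injective_of_ff h

theorem wDiff_exact [Module.FaithfullyFlat S R] (e : RingHom.comp j₁ φ = RingHom.comp j₂ φ) :
    Function.Exact (wLin : _ →ₗ[_] Dieu.Res φ) (wDiff e) := by
  intro t
  constructor
  · intro h
    have hj : j₁ t.val = j₂ t.val := sub_eq_zero.1 h
    have hmem : ∀ n, t.val.coeff n ∈ Set.range (algebraMap S R) := fun n => by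
      have hn := congrArg (fun w => WittVector.coeff w n) hj
      simp only [WittVector.map_coeff] at hn
      rw [← (Algebra.IsEffective.of_faithfullyFlat S R).eqLocus_includeLeft_includeRight]
      exact hn
    choose s hs using hmem
    refine ⟨⟨s⟩, Dieu.Res.ext _ ?_⟩
    ext n
    exact (WittVector.map_coeff _ _ _).trans (hs n)
  · rintro ⟨a, rfl⟩
    show Dieu.Res.mk _ (j₁ (φ a) - j₂ (φ a)) = 0
    rw [← RingHom.comp_apply j₁ φ a, e, ← RingHom.comp_apply, sub_self]
    rfl

variable (M : Type v) [AddCommGroup M] [Module (WittVector p S) M]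

theorem wLin_rTensor_lid (x : M) :
    (wLin : _ →ₗ[_] Dieu.Res φ).rTensor M ((TensorProduct.lid (WittVector p S) M).symm x) =
      Dieu.BC.ι φ M x := by
  rw [TensorProduct.lid_symm_apply, LinearMap.rTensor_tmul, Dieu.BC.ι_apply]
  show (Dieu.Res.mk φ (φ 1)) ⊗ₜ[WittVector p S] x = _
  rw [map_one]
  rfl

theorem wDiff_rTensor (e : RingHom.comp j₁ φ = RingHom.comp j₂ φ) (z : Dieu.BC φ M) :
    Dieu.BC.castHom e (Dieu.BC.push φ j₁ z) - Dieu.BC.push φ j₂ z =
      (show Dieu.BC (RingHom.comp j₂ φ) M from (wDiff e).rTensor M z) := by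
  induction z using Dieu.BC.induction_on φ with
  | zero => rw [map_zero, map_zero, map_zero, sub_zero]; exact (map_zero ((wDiff e).rTensor M)).symm
  | tmul b x =>
    rw [Dieu.BC.push_tmul, Dieu.BC.push_tmul, Dieu.BC.castHom_tmul]
    show _ = (Dieu.Res.mk (RingHom.comp j₂ φ) (j₁ b - j₂ b)) ⊗ₜ[WittVector p S] x
    exact (TensorProduct.sub_tmul (Dieu.Res.mk (RingHom.comp j₂ φ) (j₁ b))
      (Dieu.Res.mk (RingHom.comp j₂ φ) (j₂ b)) x).symm
  | add a b ha hb =>
    rw [map_add, map_add, map_add, add_sub_add_comm, ha, hb]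
    exact (map_add ((wDiff e).rTensor M) a b).symm

/-- Exactness of `M → M_R ⇉ M_{R⊗R}`. -/
theorem bc_equalizer [Module.FaithfullyFlat S R] [Module.Flat (WittVector p S) M]
    (e : RingHom.comp j₁ φ = RingHom.comp j₂ φ) :
    Function.Injective (Dieu.BC.ι φ M) ∧ ∀ z : Dieu.BC φ M,
      (Dieu.BC.castHom e (Dieu.BC.push φ j₁ z) = Dieu.BC.push φ j₂ z ↔ z ∈ Set.range (Dieu.BC.ι φ M)) := by
  constructor
  · intro x y h
    rw [← wLin_rTensor_lid, ← wLin_rTensor_lid] at h
    exact (TensorProduct.lid (WittVector p S) M).symm.injective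
      (Module.Flat.rTensor_preserves_injective_linearMap _ wLin_injective h)
  · intro z
    rw [← sub_eq_zero, wDiff_rTensor]
    refine (Module.Flat.rTensor_exact (M := M) (wDiff_exact e) z).trans ⟨?_, ?_⟩
    · rintro ⟨t, rfl⟩
      exact ⟨TensorProduct.lid (WittVector p S) M t, by
        rw [← wLin_rTensor_lid, LinearEquiv.symm_apply_apply]⟩
    · rintro ⟨x, rfl⟩
      exact ⟨_, wLin_rTensor_lid M x⟩

end Groth.Agent.DispRig
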