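import Groth.Agent.DispRig.Main
import Mathlib

/-! Homomorphisms of base-changed displays lift up to a power of `p`. -/

set_option autoImplicit false
set_option maxSynthPendingDepth 3
set_option linter.style.haveILetI false

universe u v w

namespace Groth.Agent.DispRig

open WittVector TensorProduct

section BC

variable {A : Type u} {B : Type u} [CommRing A] [CommRing B] (g : A →+* B)
variable {M : Type v} [AddCommGroup M] [Module A M]

theorem ι_surjective (hg : Function.Surjective g) : Function.Surjective (Dieu.BC.ι g M) := by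
  intro z
  induction z using Dieu.BC.induction_on with
  | zero => exact ⟨0, map_zero _⟩
  | tmul b x =>
    obtain ⟨a, rfl⟩ := hg b
    exact ⟨a • x, by rw [Dieu.BC.ι_apply]; exact (Dieu.BC.tmul_apply_eq g a x).symm⟩
  | add z z' h h' =>
    obtain ⟨x, rfl⟩ := h
    obtain ⟨y, rfl⟩ := h'
    exact ⟨x + y, map_add _ x y⟩

theorem ι_eq_zero_iff (hg : Function.Surjective g) (x : M) :
    Dieu.BC.ι g M x = 0 ↔ x ∈ (RingHom.ker g : Ideal A) • (⊤ : Submodule A M) := by
  constructor
  · intro h
    let e₀ : Dieu.Res g ≃ₗ[A] A ⧸ (RingHom.ker g : Ideal A) := LinearEquiv.symm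
      { (RingHom.quotientKerEquivOfSurjective hg).toEquiv.trans (Equiv.refl (Dieu.Res g)) with
        map_add' := fun u v => map_add (RingHom.quotientKerEquivOfSurjective hg) u v
        map_smul' := fun c u => by
          obtain ⟨u, rfl⟩ := Ideal.Quotient.mk_surjective u
          apply Dieu.Res.ext
          show g (c * u) = g c * g u
          exact map_mul g c u }
    have h1 : (TensorProduct.congr e₀ (LinearEquiv.refl A M)) ((Dieu.Res.mk g 1) ⊗ₜ[A] x) = 0 := by
      rw [show ((Dieu.Res.mk g 1) ⊗ₜ[A] x : Dieu.Res g ⊗[A] M) = (Dieu.BC.ι g M x : Dieu.BC g M) from rfl, h]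
      exact map_zero _
    have he : e₀ (Dieu.Res.mk g 1) = Ideal.Quotient.mk _ 1 := by
      rw [← LinearEquiv.eq_symm_apply]
      apply Dieu.Res.ext
      show (1 : B) = g 1
      rw [map_one]
    rw [TensorProduct.congr_tmul, he, LinearEquiv.refl_apply] at h1
    have h2 := congrArg (TensorProduct.quotTensorEquivQuotSMul M (RingHom.ker g : Ideal A)) h1
    rw [map_zero, TensorProduct.quotTensorEquivQuotSMul_mk_tmul, one_smul] at h2
    exact (Submodule.Quotient.mk_eq_zero _).1 h2
  · intro h
    refine Submodule.smul_induction_on h (fun a ha v _ => ?_) (fun u v hu hv => by rw [map_add, hu, hv, add_zero])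
    rw [LinearMap.map_smulₛₗ, RingHom.mem_ker.1 ha, zero_smul]

end BC

variable {p : ℕ} [Fact p.Prime] {S : Type u} [CommRing S]

local notation "σ" => (WittVector.frobenius : WittVector p S →+* WittVector p S)

section Phi

variable {P : Type v} [AddCommGroup P] [Module (WittVector p S) P] {P' : Type w} [AddCommGroup P']
  [Module (WittVector p S) P']

/-- `β ↦ F'^# (1 ⊗ β) V^#`. -/
noncomputable def Φ (D' : W4c1extbt610.Display3n p S P') (Vs : P →ₗ[WittVector p S] Dieu.BC σ P)
    (β : P →ₗ[WittVector p S] P') : P →ₗ[WittVector p S] P' :=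
  Dieu.BC.lift σ
    { toFun := fun x => D'.F (β x)
      map_add' := fun x y => by rw [map_add, map_add]
      map_smul' := fun c x => by rw [map_smul, LinearMap.map_smulₛₗ] } ∘ₗ Vs

theorem F_eq_smul_Vinv (D : W4c1extbt610.Display3n p S P) (y : D.Q) :
    D.F (y : P) = (p : WittVector p S) • D.Vinv y := by
  have h := D.Vinv_verschiebung_smul 1 (y : P)
  rw [one_smul] at h
  rw [← h, show (⟨verschiebung (1 : WittVector p S) • (y : P), _⟩ : D.Q) = verschiebung (1 : WittVector p S) • y from rfl,
    LinearMap.map_smulₛₗ, frobenius_verschiebung, one_mul]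

theorem Φ_apply_smul_Vinv {D : W4c1extbt610.Display3n p S P} (D' : W4c1extbt610.Display3n p S P')
    {Vs : P →ₗ[WittVector p S] Dieu.BC σ P} (hVs : Dieu.IsVSharp D Vs) (β : P →ₗ[WittVector p S] P')
    (w : WittVector p S) (y : D.Q) : Φ D' Vs β (w • D.Vinv y) = w • D'.F (β y) := by
  rw [Φ, LinearMap.comp_apply, hVs.app_smul_Vinv, Dieu.BC.lift_tmul]
  rfl

theorem Φ_apply_smul_F {D : W4c1extbt610.Display3n p S P} (D' : W4c1extbt610.Display3n p S P')
    {Vs : P →ₗ[WittVector p S] Dieu.BC σ P} (hVs : Dieu.IsVSharp D Vs) (β : P →ₗ[WittVector p S] P')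
    (w : WittVector p S) (x : P) : Φ D' Vs β (w • D.F x) = (p : WittVector p S) • w • D'.F (β x) := by
  rw [Φ, LinearMap.comp_apply, hVs.app_smul_F, map_smul, Dieu.BC.lift_tmul]
  rfl

theorem Φ_sub (D' : W4c1extbt610.Display3n p S P') (Vs : P →ₗ[WittVector p S] Dieu.BC σ P)
    (β γ : P →ₗ[WittVector p S] P') : Φ D' Vs (β - γ) = Φ D' Vs β - Φ D' Vs γ := by
  refine LinearMap.ext fun x => ?_
  simp only [Φ, LinearMap.sub_apply, LinearMap.comp_apply]
  induction Vs x using Dieu.BC.induction_on with
  | zero => simp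
  | tmul w z =>
    rw [Dieu.BC.lift_tmul, Dieu.BC.lift_tmul, Dieu.BC.lift_tmul, ← smul_sub]
    exact congrArg (w • ·) (map_sub D'.F _ _)
  | add z z' h h' => rw [map_add, map_add, map_add, h, h']; abel

theorem Φ_smul_natCast (D' : W4c1extbt610.Display3n p S P') (Vs : P →ₗ[WittVector p S] Dieu.BC σ P)
    (c : ℕ) (β : P →ₗ[WittVector p S] P') :
    Φ D' Vs ((c : WittVector p S) • β) = (c : WittVector p S) • Φ D' Vs β := by
  refine LinearMap.ext fun x => ?_
  simp only [Φ, LinearMap.smul_apply, LinearMap.comp_apply]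
  induction Vs x using Dieu.BC.induction_on with
  | zero => simp
  | tmul w z =>
    rw [Dieu.BC.lift_tmul, Dieu.BC.lift_tmul]
    show w • D'.F ((c : WittVector p S) • β z) = _
    rw [LinearMap.map_smulₛₗ, map_natCast, smul_comm]
    rfl
  | add z z' h h' => rw [map_add, map_add, h, h', smul_add]

theorem Φ_iterate_sub (D' : W4c1extbt610.Display3n p S P') (Vs : P →ₗ[WittVector p S] Dieu.BC σ P) :
    ∀ (m : ℕ) (β γ : P →ₗ[WittVector p S] P'), (Φ D' Vs)^[m] (β - γ) = (Φ D' Vs)^[m] β - (Φ D' Vs)^[m] γ := by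
  intro m
  induction m with
  | zero => intro β γ; rfl
  | succ m ih => intro β γ; rw [Function.iterate_succ_apply, Φ_sub, ih]; rfl

theorem Φ_iterate_smul (D' : W4c1extbt610.Display3n p S P') (Vs : P →ₗ[WittVector p S] Dieu.BC σ P) :
    ∀ (m : ℕ) (c : ℕ) (β : P →ₗ[WittVector p S] P'),
      (Φ D' Vs)^[m] ((c : WittVector p S) • β) = (c : WittVector p S) • (Φ D' Vs)^[m] β := by
  intro m
  induction m with
  | zero => intro c β; rfl
  | succ m ih => intro c β; rw [Function.iterate_succ_apply, Φ_smul_natCast, ih]; rfl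

theorem Φ_mem (D' : W4c1extbt610.Display3n p S P') (Vs : P →ₗ[WittVector p S] Dieu.BC σ P) {J J' : Ideal (WittVector p S)}
    (h : ∀ a ∈ J, σ a ∈ J') (β : P →ₗ[WittVector p S] P') (hβ : ∀ x, β x ∈ J • (⊤ : Submodule (WittVector p S) P')) (x : P) :
    Φ D' Vs β x ∈ J' • (⊤ : Submodule (WittVector p S) P') := by
  simp only [Φ, LinearMap.comp_apply]
  induction Vs x using Dieu.BC.induction_on with
  | zero => simp
  | tmul w z =>
    rw [Dieu.BC.lift_tmul]
    refine Submodule.smul_mem _ _ ?_
    show D'.F (β z) ∈ _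
    refine Submodule.smul_induction_on (hβ z) (fun a ha v _ => ?_) (fun u v hu hv => by
      rw [map_add]; exact Submodule.add_mem _ hu hv)
    rw [LinearMap.map_smulₛₗ]; exact Submodule.smul_mem_smul (h a ha) trivial
  | add z z' hz hz' => rw [map_add]; exact Submodule.add_mem _ hz hz'

end Phi

theorem exists_lift {R : Type u} [CommRing R] (hp : IsNilpotent (p : S)) (f : S →+* R) (hf : Function.Surjective f)
    (hker : IsNilpotent (RingHom.ker f)) {P P' : Type v} [AddCommGroup P] [Module (WittVector p S) P] [AddCommGroup P']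
    [Module (WittVector p S) P'] {D : W4c1extbt610.Display3n p S P} (D' : W4c1extbt610.Display3n p S P')
    (hD : Dieu.IsDisplay D)
    {DR : W4c1extbt610.Display3n p R (Dieu.BC (WittVector.map f : WittVector p S →+* WittVector p R) P)}
    (hDR : Dieu.IsDispBaseChange f D DR)
    {DR' : W4c1extbt610.Display3n p R (Dieu.BC (WittVector.map f : WittVector p S →+* WittVector p R) P')}
    (hDR' : Dieu.IsDispBaseChange f D' DR')
    (χ : Dieu.BC (WittVector.map f : WittVector p S →+* WittVector p R) P →ₗ[WittVector p R]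
      Dieu.BC (WittVector.map f : WittVector p S →+* WittVector p R) P') (hχ : W4c1extbt610.IsHom DR DR' χ) :
    ∃ (n : ℕ) (ψ : P →ₗ[WittVector p S] P'), W4c1extbt610.IsHom D D' ψ ∧
      Dieu.BC.map (WittVector.map f : WittVector p S →+* WittVector p R) ψ = ((p : WittVector p R) ^ n) • χ := by
  have hg : Function.Surjective (WittVector.map f : WittVector p S →+* WittVector p R) := WittVector.map_surjective f hf
  obtain ⟨Vs, hVs, -⟩ := hD
  letI : Module (WittVector p S) (Dieu.BC (WittVector.map f : WittVector p S →+* WittVector p R) P') := Module.compHom _ (WittVector.map f : WittVector p S →+* WittVector p R)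
  let ι' : P' →ₗ[WittVector p S] Dieu.BC (WittVector.map f : WittVector p S →+* WittVector p R) P' :=
    { toFun := Dieu.BC.ι (WittVector.map f : WittVector p S →+* WittVector p R) P', map_add' := map_add _, map_smul' := fun c x => LinearMap.map_smulₛₗ _ c x }
  let χ' : P →ₗ[WittVector p S] Dieu.BC (WittVector.map f : WittVector p S →+* WittVector p R) P' :=
    { toFun := fun x => χ (Dieu.BC.ι (WittVector.map f : WittVector p S →+* WittVector p R) P x)
      map_add' := fun x y => by rw [map_add, map_add]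
      map_smul' := fun c x => by rw [LinearMap.map_smulₛₗ, map_smul]; rfl }
  haveI := D.projective
  obtain ⟨ψ₀, hψ₀⟩ := Module.projective_lifting_property ι' χ' (ι_surjective (WittVector.map f : WittVector p S →+* WittVector p R) hg)
  have hι : ∀ x, Dieu.BC.ι (WittVector.map f : WittVector p S →+* WittVector p R) P' (ψ₀ x) = χ (Dieu.BC.ι (WittVector.map f : WittVector p S →+* WittVector p R) P x) := fun x => DFunLike.congr_fun hψ₀ x
  have hFι : ∀ z : P', Dieu.BC.ι (WittVector.map f : WittVector p S →+* WittVector p R) P' (D'.F z) = DR'.F (Dieu.BC.ι (WittVector.map f : WittVector p S →+* WittVector p R) P' z) := fun z => by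
    rw [Dieu.BC.ι_apply, Dieu.BC.ι_apply, hDR'.F_tmul, map_one]
  have hFι' : ∀ z : P, Dieu.BC.ι (WittVector.map f : WittVector p S →+* WittVector p R) P (D.F z) = DR.F (Dieu.BC.ι (WittVector.map f : WittVector p S →+* WittVector p R) P z) := fun z => by
    rw [Dieu.BC.ι_apply, Dieu.BC.ι_apply, hDR.F_tmul, map_one]
  have hΦι : ∀ x, Dieu.BC.ι (WittVector.map f : WittVector p S →+* WittVector p R) P' (Φ D' Vs ψ₀ x) = (p : WittVector p R) • χ (Dieu.BC.ι (WittVector.map f : WittVector p S →+* WittVector p R) P x) := by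
    intro x
    have hx : x ∈ Submodule.span (WittVector p S) (Set.range D.Vinv) := D.span_range_Vinv ▸ Submodule.mem_top
    induction hx using Submodule.span_induction with
    | mem y hy =>
      obtain ⟨y, rfl⟩ := hy
      have h := Φ_apply_smul_Vinv D' hVs ψ₀ 1 y
      rw [one_smul, one_smul] at h
      rw [h, hFι, hι, ← hχ.comm_F, ← hFι', F_eq_smul_Vinv, LinearMap.map_smulₛₗ, map_natCast, map_smul]
    | zero => simp
    | add y z _ _ hy hz => simp only [map_add, smul_add, hy, hz]
    | smul c y _ hy => rw [map_smul, LinearMap.map_smulₛₗ, hy, LinearMap.map_smulₛₗ, map_smul, smul_comm]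
  let a := RingHom.ker f
  obtain ⟨N, hN⟩ := hker
  obtain ⟨m, hm⟩ := DispLift.exists_iterate_frobenius_eq_zero f hp N fun x hx => by
    have h := Ideal.pow_mem_pow (show x ∈ RingHom.ker f from hx) N
    rw [hN] at h
    exact Ideal.mem_bot.1 h
  let c : Ideal (WittVector p S) := RingHom.ker (WittVector.map f : WittVector p S →+* WittVector p R)
  let J : ℕ → Ideal (WittVector p S) := fun t => Ideal.span ((⇑σ)^[t] '' (c : Set (WittVector p S)))
  have hJ : ∀ t, ∀ z ∈ J t, σ z ∈ J (t + 1) := fun t z hz => by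
    induction hz using Submodule.span_induction with
    | mem y hy =>
      obtain ⟨w, hw, rfl⟩ := hy
      exact Ideal.subset_span ⟨w, hw, Function.iterate_succ_apply' _ _ _⟩
    | zero => simp
    | add y z _ _ hy hz => rw [map_add]; exact Ideal.add_mem _ hy hz
    | smul r y _ hy => rw [smul_eq_mul, map_mul]; exact Ideal.mul_mem_left _ _ hy
  have hzero : ∀ β : P →ₗ[WittVector p S] P', (∀ x, Dieu.BC.ι (WittVector.map f : WittVector p S →+* WittVector p R) P' (β x) = 0) → (Φ D' Vs)^[m] β = 0 := by
    intro β hβ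
    have hit : ∀ t x, ((Φ D' Vs)^[t] β) x ∈ J t • (⊤ : Submodule (WittVector p S) P') := by
      intro t
      induction t with
      | zero => intro x; rw [show J 0 = c by simp [J, Ideal.span_eq]]; exact (ι_eq_zero_iff (WittVector.map f : WittVector p S →+* WittVector p R) hg _).1 (hβ x)
      | succ t ih => intro x; rw [Function.iterate_succ_apply']; exact Φ_mem D' Vs (hJ t) _ ih x
    have h0 : J m = ⊥ := Ideal.span_eq_bot.2 fun z ⟨w, hw, e⟩ => e ▸ hm w hw
    exact LinearMap.ext fun x => by simpa [h0] using hit m x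
  set ψ := (Φ D' Vs)^[m] ψ₀
  have hfix : Φ D' Vs ψ = (p : WittVector p S) • ψ := by
    have h := hzero (Φ D' Vs ψ₀ - (p : WittVector p S) • ψ₀) fun x => by
      rw [LinearMap.sub_apply, map_sub, LinearMap.smul_apply, LinearMap.map_smulₛₗ, hι, hΦι, map_natCast, sub_self]
    rw [Φ_iterate_sub, Φ_iterate_smul, sub_eq_zero, ← Function.iterate_succ_apply] at h
    rw [← h, Function.iterate_succ_apply']
  have hred : ∀ k x, Dieu.BC.ι (WittVector.map f : WittVector p S →+* WittVector p R) P' (((Φ D' Vs)^[k] ψ₀) x) = (p : WittVector p R) ^ k • χ (Dieu.BC.ι (WittVector.map f : WittVector p S →+* WittVector p R) P x) := by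
    intro k
    induction k with
    | zero => intro x; rw [pow_zero, one_smul]; exact hι x
    | succ k ih =>
      intro x
      have hx : x ∈ Submodule.span (WittVector p S) (Set.range D.Vinv) := D.span_range_Vinv ▸ Submodule.mem_top
      induction hx using Submodule.span_induction with
      | mem y hy =>
        obtain ⟨y, rfl⟩ := hy
        rw [Function.iterate_succ_apply']
        have h := Φ_apply_smul_Vinv D' hVs ((Φ D' Vs)^[k] ψ₀) 1 y
        rw [one_smul, one_smul] at h
        rw [h, hFι, ih, LinearMap.map_smulₛₗ, map_pow, map_natCast, ← hχ.comm_F, ← hFι', F_eq_smul_Vinv,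
          LinearMap.map_smulₛₗ, map_natCast, map_smul, smul_smul, ← pow_succ]
      | zero => simp
      | add y z _ _ hy hz => simp only [map_add, smul_add, hy, hz]
      | smul c y _ hy => rw [map_smul, LinearMap.map_smulₛₗ, hy, LinearMap.map_smulₛₗ, map_smul, smul_comm]
  obtain ⟨e, he⟩ := hp
  let ψ₁ : P →ₗ[WittVector p S] P' := ((p : WittVector p S) ^ (e + 1)) • ψ
  have hψ₁Q : ∀ x, ψ₁ x ∈ D'.Q := by
    intro x
    refine D'.IV_smul_le (Submodule.smul_mem_smul (pow_succ (p : WittVector p S) e ▸ Ideal.mul_mem_right _ _ ?_) Submodule.mem_top)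
    have h0 : ((p : WittVector p S) ^ e).coeff 0 = 0 := by
      show WittVector.constantCoeff ((p : WittVector p S) ^ e) = 0
      rw [map_pow, map_natCast, he]
    rw [← verschiebung_E_of_coeff_zero h0]
    exact W4c1extbt610.verschiebung_mem_IV p S _
  have hψ₁F : ∀ x, ψ₁ (D.F x) = D'.F (ψ₁ x) := by
    intro x
    have h := Φ_apply_smul_F D' hVs ψ 1 x
    rw [one_smul, one_smul, hfix, LinearMap.smul_apply] at h
    show (p : WittVector p S) ^ (e + 1) • ψ (D.F x) = D'.F ((p : WittVector p S) ^ (e + 1) • ψ x)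
    rw [LinearMap.map_smulₛₗ, map_pow, map_natCast, pow_succ, mul_smul, mul_smul, h]
  refine ⟨m + (e + 1) + 1, (p : WittVector p S) • ψ₁,
    ⟨fun q _ => D'.Q.smul_mem _ (hψ₁Q q), fun x => ?_, fun q => ?_⟩, ?_⟩
  · show (p : WittVector p S) • ψ₁ (D.F x) = D'.F ((p : WittVector p S) • ψ₁ x)
    rw [LinearMap.map_smulₛₗ, map_natCast, hψ₁F]
  · show (p : WittVector p S) • ψ₁ (D.Vinv q) = D'.Vinv ((p : WittVector p S) • ⟨ψ₁ q, hψ₁Q q⟩)
    rw [LinearMap.map_smulₛₗ, map_natCast, ← map_smul, ← F_eq_smul_Vinv, ← F_eq_smul_Vinv, hψ₁F]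
  · refine Dieu.BC.ext (WittVector.map f : WittVector p S →+* WittVector p R) fun x => ?_
    rw [← Dieu.BC.ι_apply, LinearMap.smul_apply, Dieu.BC.map, Dieu.BC.lift_ι, LinearMap.comp_apply]
    show Dieu.BC.ι (WittVector.map f : WittVector p S →+* WittVector p R) P' ((p : WittVector p S) • (p : WittVector p S) ^ (e + 1) • ψ x) = _
    rw [LinearMap.map_smulₛₗ, LinearMap.map_smulₛₗ, hred, map_natCast, map_pow, map_natCast, smul_smul, smul_smul]
    congr 1
    ring

end Groth.Agent.DispRig
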