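import Groth.Agent.DispRig.Witt
import Groth.Prelude.Def_Disp2
import Mathlib

/-! Rigidity of homomorphisms of displays, and lifting them up to isogeny. -/

set_option autoImplicit false
set_option maxSynthPendingDepth 3
set_option linter.style.haveILetI false

universe u v w

namespace Groth.Agent.DispRig

open WittVector TensorProduct

variable {p : ℕ} [Fact p.Prime] {S : Type u} [CommRing S]

local notation "σ" => (WittVector.frobenius : WittVector p S →+* WittVector p S)

section Transfer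

variable (a b : Ideal S) (hsq : ∀ x ∈ a, ∀ y ∈ a, x * y ∈ b) (hpa : ∀ x ∈ a, (p : S) * x ∈ b)

theorem map_mem {x : WittVector p S} (hx : x ∈ WI a) :
    WittVector.map (Ideal.Quotient.mk b) x ∈ WI (a.map (Ideal.Quotient.mk b)) :=
  mem_WI.2 fun n => by rw [WittVector.map_coeff]; exact Ideal.mem_map_of_mem _ (mem_WI.1 hx n)

include hsq in
theorem map_sq : ∀ x ∈ a.map (Ideal.Quotient.mk b), ∀ y ∈ a.map (Ideal.Quotient.mk b), x * y = 0 := by
  intro x' hx' y' hy'
  obtain ⟨x, hx, rfl⟩ := (Ideal.mem_map_iff_of_surjective _ Ideal.Quotient.mk_surjective).1 hx'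
  obtain ⟨y, hy, rfl⟩ := (Ideal.mem_map_iff_of_surjective _ Ideal.Quotient.mk_surjective).1 hy'
  rw [← map_mul, Ideal.Quotient.eq_zero_iff_mem]
  exact hsq x hx y hy

include hpa in
theorem map_pmul : ∀ x ∈ a.map (Ideal.Quotient.mk b), (p : S ⧸ b) * x = 0 := by
  intro x' hx'
  obtain ⟨x, hx, rfl⟩ := (Ideal.mem_map_iff_of_surjective _ Ideal.Quotient.mk_surjective).1 hx'
  rw [← map_natCast (Ideal.Quotient.mk b), ← map_mul, Ideal.Quotient.eq_zero_iff_mem]
  exact hpa x hx

theorem mem_WI_iff_map {x : WittVector p S} : x ∈ WI b ↔ WittVector.map (Ideal.Quotient.mk b) x = 0 := RingHom.mem_ker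

theorem E_mem_of_mem {x : WittVector p S} (hx : x ∈ WI b) : E x ∈ WI b := E_mem hx

include hsq hpa

theorem E_add_mem {x y : WittVector p S} (hx : x ∈ WI a) (hy : y ∈ WI a) : E (x + y) - (E x + E y) ∈ WI b := by
  rw [mem_WI_iff_map, map_sub, map_add, map_E, map_E, map_E, map_add,
    E_add (map_sq a b hsq) (map_pmul a b hpa) (map_mem a b hx) (map_mem a b hy), sub_self]

theorem E_mul_mem (u : WittVector p S) {x : WittVector p S} (hx : x ∈ WI a) : E (u * x) - σ u * E x ∈ WI b := by
  rw [mem_WI_iff_map, map_sub, map_mul, map_E, map_E, map_mul,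
    E_mul (map_sq a b hsq) (map_pmul a b hpa) _ (map_mem a b hx)]
  have : WittVector.map (Ideal.Quotient.mk b) (σ u) = frobenius (WittVector.map (Ideal.Quotient.mk b) u) := by
    refine WittVector.ext fun n => ?_
    rw [WittVector.map_coeff, coeff_frobenius, coeff_frobenius]
    rw [MvPolynomial.aeval_def, MvPolynomial.aeval_def, MvPolynomial.eval₂_comp_left (Ideal.Quotient.mk b)]
    congr 1

  rw [this, sub_self]

theorem frobenius_mem {x : WittVector p S} (hx : x ∈ WI a) : σ x ∈ WI b := by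
  have h := frobenius_eq_zero (map_sq a b hsq) (map_pmul a b hpa) (map_mem a b hx)
  rw [mem_WI_iff_map]
  refine WittVector.ext fun n => ?_
  have h' := congrArg (fun z => WittVector.coeff z n) h
  simp only [coeff_frobenius, WittVector.zero_coeff] at h'
  rw [WittVector.map_coeff, coeff_frobenius, WittVector.zero_coeff]
  refine Eq.trans ?_ h'
  rw [MvPolynomial.aeval_def, MvPolynomial.aeval_def, MvPolynomial.eval₂_comp_left (Ideal.Quotient.mk b)]
  congr 1


theorem natCast_mul_mem {x : WittVector p S} (hx : x ∈ WI a) : (p : WittVector p S) * x ∈ WI b := by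
  rw [mem_WI_iff_map, map_mul, map_natCast,
    natCast_mul_eq_zero (map_sq a b hsq) (map_pmul a b hpa) (map_mem a b hx)]

theorem IV_mul_mem {u x : WittVector p S} (hu : u ∈ W4c1extbt610.IV p S) (hx : x ∈ WI a) : u * x ∈ WI b := by
  rw [mem_WI_iff_map, map_mul, ← verschiebung_E_of_coeff_zero (coeff_zero_of_mem_IV hu), map_verschiebung,
    verschiebung_mul_eq_zero (map_sq a b hsq) (map_pmul a b hpa) _ (map_mem a b hx)]

theorem sum_teichmuller_mem {ι : Type*} (s : Finset ι) (c : ι → S) (u : ι → WittVector p S) (hc : ∀ i ∈ s, c i ∈ a)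
    {x : WittVector p S} (hx0 : x.coeff 0 = 0) (hx : x = ∑ i ∈ s, u i * teichmuller p (c i)) : x ∈ WI b := by
  have h := sum_teichmuller_mul (map_sq a b hsq) (map_pmul a b hpa) s (fun i => Ideal.Quotient.mk b (c i))
    (fun i => WittVector.map (p := p) (Ideal.Quotient.mk b) (u i)) fun i hi => Ideal.mem_map_of_mem _ (hc i hi)
  have hπ : WittVector.map (p := p) (Ideal.Quotient.mk b) x =
      teichmuller p (∑ i ∈ s, (WittVector.map (p := p) (Ideal.Quotient.mk b) (u i)).coeff 0 * Ideal.Quotient.mk b (c i)) := by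
    rw [hx, map_sum, ← h]
    exact Finset.sum_congr rfl fun i _ => by rw [map_mul, map_teichmuller]
  rw [mem_WI_iff_map, hπ]
  have h0 : (WittVector.map (p := p) (Ideal.Quotient.mk b) x).coeff 0 = 0 := by rw [WittVector.map_coeff, hx0, map_zero]
  rw [hπ, teichmuller_coeff_zero] at h0
  rw [h0, teichmuller_zero]

end Transfer

section Rigid

variable {P : Type v} [AddCommGroup P] [Module (WittVector p S) P] {P' : Type w} [AddCommGroup P']
  [Module (WittVector p S) P']

theorem sum_repr {n : ℕ} (π' : (Fin n → WittVector p S) →ₗ[WittVector p S] P')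
    (s : P' →ₗ[WittVector p S] (Fin n → WittVector p S)) (hs : π' ∘ₗ s = LinearMap.id) (z : P') :
    ∑ i, s z i • π' (Pi.single i 1) = z := by
  conv_rhs => rw [← show π' (s z) = z from DFunLike.congr_fun hs z, LinearMap.pi_apply_eq_sum_univ π']
  refine Finset.sum_congr rfl fun i _ => ?_
  congr 2
  ext j
  simp [Pi.single_apply, eq_comm]

theorem coord_mem {n : ℕ} (s : P' →ₗ[WittVector p S] (Fin n → WittVector p S)) {J : Ideal (WittVector p S)} {z : P'}
    (hz : z ∈ J • (⊤ : Submodule (WittVector p S) P')) (i : Fin n) : s z i ∈ J := by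
  refine Submodule.smul_induction_on hz (fun a ha v _ => ?_) (fun x y hx hy => ?_)
  · rw [map_smul, Pi.smul_apply, smul_eq_mul]; exact J.mul_mem_right _ ha
  · rw [map_add, Pi.add_apply]; exact J.add_mem hx hy

theorem lift_comp_step {A : Type*} [CommRing A] {τ : A →+* A} {Q : Type*} [AddCommGroup Q] [Module A Q]
    {Q' : Type*} [AddCommGroup Q'] [Module A Q'] {N : Type*} [AddCommGroup N] [Module A N] (j : ℕ) (V : N →ₛₗ[τ] N)
    (θ : Q' →ₛₗ[τ ^ j] N) (θ' : Q' →ₛₗ[τ ^ (j + 1)] N) (h : ∀ y, θ' y = V (θ y))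
    (f : Q →ₗ[A] Dieu.BC (τ ^ j) Q') (θ₁ : Q →ₛₗ[τ] N) (h₁ : ∀ z, θ₁ z = V (Dieu.BC.lift (τ ^ j) θ (f z)))
    (t : Dieu.BC τ Q) :
    Dieu.BC.lift (τ ^ (j + 1)) θ' (Dieu.BC.castHom (Dieu.comp_pow_eq_pow_succ τ j)
      (Dieu.BC.lift τ (Dieu.BC.push (τ ^ j) τ) (Dieu.BC.map τ f t))) = Dieu.BC.lift τ θ₁ t := by
  induction t using Dieu.BC.induction_on with
  | zero => simp
  | tmul w z =>
    rw [Dieu.BC.map_tmul, Dieu.BC.lift_tmul, Dieu.BC.lift_tmul, map_smul, map_smul, h₁]
    congr 1
    induction f z using Dieu.BC.induction_on with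
    | zero => simp
    | tmul u y =>
      rw [Dieu.BC.push_tmul, Dieu.BC.castHom_tmul, Dieu.BC.lift_tmul, Dieu.BC.lift_tmul, h, LinearMap.map_smulₛₗ]
    | add y y' hy hy' => rw [map_add, map_add, map_add, hy, hy', map_add, map_add]
  | add z z' hz hz' => rw [map_add, map_add, map_add, map_add, hz, hz', map_add]

theorem vanish_of_iterate {N : Type*} [AddCommGroup N] [Module (WittVector p S) N] {D : W4c1extbt610.Display3n p S P}
    (hD : Dieu.IsDisplay D) (Vt : N →ₛₗ[σ] N) (δb : P →ₗ[WittVector p S] N)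
    (hVt : ∀ y : D.Q, Vt (δb y) = δb (D.Vinv y))
    (hkill : ∀ r ∈ W4c1extbt610.IV p S ⊔ Ideal.span {(p : WittVector p S)}, ∀ y : N, r • y = 0) (x : P) : δb x = 0 := by
  obtain ⟨Vs, hVs, N₀, hN₀⟩ := hD
  let θ₁ : P →ₛₗ[σ] N :=
    { toFun := fun x => Vt (δb x)
      map_add' := fun x y => by rw [map_add, map_add]
      map_smul' := fun c x => by rw [map_smul, LinearMap.map_smulₛₗ] }
  have step1 : ∀ x, δb x = Dieu.BC.lift σ θ₁ (Vs x) := by
    intro x
    have hx : x ∈ Submodule.span (WittVector p S) (Set.range D.Vinv) := D.span_range_Vinv ▸ Submodule.mem_top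
    induction hx using Submodule.span_induction with
    | mem y hy =>
      obtain ⟨y, rfl⟩ := hy
      have h := hVs.app_smul_Vinv 1 y
      rw [one_smul] at h
      rw [h, Dieu.BC.lift_tmul, one_smul]
      exact (hVt y).symm
    | zero => simp
    | add y z _ _ hy hz => rw [map_add, hy, hz, map_add, map_add]
    | smul c y _ hy => rw [map_smul, hy, map_smul, map_smul]
  have main : ∀ k : ℕ, ∃ θ : P →ₛₗ[σ ^ (k + 1)] N, ∀ x, δb x = Dieu.BC.lift (σ ^ (k + 1)) θ (Dieu.vSharpPow Vs k x) := by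
    intro k
    induction k with
    | zero =>
      let θ : P →ₛₗ[σ ^ (0 + 1)] N :=
        { toFun := θ₁
          map_add' := map_add θ₁
          map_smul' := fun c x => by rw [LinearMap.map_smulₛₗ, zero_add, pow_one] }
      refine ⟨θ, fun x => ?_⟩
      rw [Dieu.vSharpPow_zero_apply, step1 x]
      induction Vs x using Dieu.BC.induction_on with
      | zero => simp
      | tmul w z => rw [Dieu.BC.castHom_tmul, Dieu.BC.lift_tmul, Dieu.BC.lift_tmul]; rfl
      | add z z' h h' => rw [map_add, map_add, map_add, h, h']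
    | succ k ih =>
      obtain ⟨θ, hθ⟩ := ih
      let θ' : P →ₛₗ[σ ^ (k + 1 + 1)] N :=
        { toFun := fun x => Vt (θ x)
          map_add' := fun x y => by rw [map_add, map_add]
          map_smul' := fun c x => by
            rw [LinearMap.map_smulₛₗ, LinearMap.map_smulₛₗ, ← Dieu.comp_pow_eq_pow_succ σ (k + 1)]; rfl }
      refine ⟨θ', fun x => ?_⟩
      rw [Dieu.vSharpPow_succ_apply, step1 x]
      exact (lift_comp_step (k + 1) Vt θ θ' (fun y => rfl) (Dieu.vSharpPow Vs k) θ₁
        (fun z => congrArg Vt (hθ z)) (Vs x)).symm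
  obtain ⟨θ, hθ⟩ := main N₀
  rw [hθ x]
  refine Submodule.smul_induction_on (hN₀ x) (fun r hr v _ => ?_) (fun u v hu hv => by rw [map_add, hu, hv, add_zero])
  rw [map_smul]
  exact hkill r hr _

/-- One step of rigidity. -/
theorem rigid_step (a b : Ideal S) (hsq : ∀ x ∈ a, ∀ y ∈ a, x * y ∈ b) (hpa : ∀ x ∈ a, (p : S) * x ∈ b)
    {D : W4c1extbt610.Display3n p S P} (D' : W4c1extbt610.Display3n p S P') (hD : Dieu.IsDisplay D)
    (δ : P →ₗ[WittVector p S] P') (hδQ : ∀ q ∈ D.Q, δ q ∈ D'.Q)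
    (hδV : ∀ q : D.Q, δ (D.Vinv q) = D'.Vinv ⟨δ q, hδQ q q.2⟩)
    (hδ : ∀ x, δ x ∈ (WI a : Ideal (WittVector p S)) • (⊤ : Submodule (WittVector p S) P')) :
    ∀ x, δ x ∈ (WI b : Ideal (WittVector p S)) • (⊤ : Submodule (WittVector p S) P') := by
  classical
  haveI := D'.finite
  haveI := D'.projective
  obtain ⟨n, π', s, -, -, hs⟩ := Module.Finite.exists_comp_eq_id_of_projective (WittVector p S) P'
  have hrep := sum_repr π' s hs
  let g : Fin n → P' := fun i => π' (Pi.single i 1)
  let cb : Submodule (WittVector p S) P' := (WI b : Ideal (WittVector p S)) • ⊤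
  let q : P' →ₗ[WittVector p S] P' ⧸ cb := cb.mkQ
  let NN : Submodule (WittVector p S) (P' ⧸ cb) := ((WI a : Ideal (WittVector p S)) • (⊤ : Submodule (WittVector p S) P')).map q
  have qzero : ∀ {x : WittVector p S}, x ∈ WI b → ∀ v : P', q (x • v) = 0 := fun hx v =>
    (Submodule.Quotient.mk_eq_zero cb).2 (Submodule.smul_mem_smul hx trivial)
  have qeq : ∀ {x y : WittVector p S}, x - y ∈ WI b → ∀ v : P', q (x • v) = q (y • v) := fun h v => by
    rw [← sub_eq_zero, ← map_sub, ← sub_smul]; exact qzero h v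
  let fn : P' → P' ⧸ cb := fun z => q (∑ i, E (s z i) • D'.F (g i))
  have fn_add : ∀ z z', z ∈ (WI a : Ideal (WittVector p S)) • (⊤ : Submodule (WittVector p S) P') →
      z' ∈ (WI a : Ideal (WittVector p S)) • (⊤ : Submodule (WittVector p S) P') → fn (z + z') = fn z + fn z' := by
    intro z z' hz hz'
    simp only [fn, ← map_add, ← Finset.sum_add_distrib, ← add_smul]
    rw [map_sum, map_sum]
    exact Finset.sum_congr rfl fun i _ => qeq (by
      rw [map_add, Pi.add_apply]; exact E_add_mem a b hsq hpa (coord_mem s hz i) (coord_mem s hz' i)) _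
  have fn_smul : ∀ (c : WittVector p S) z, z ∈ (WI a : Ideal (WittVector p S)) • (⊤ : Submodule (WittVector p S) P') →
      fn (c • z) = σ c • fn z := by
    intro c z hz
    simp only [fn, ← map_smul, Finset.smul_sum, smul_smul]
    rw [map_sum, map_sum]
    exact Finset.sum_congr rfl fun i _ => qeq (by
      rw [map_smul, Pi.smul_apply, smul_eq_mul]; exact E_mul_mem a b hsq hpa c (coord_mem s hz i)) _
  have fn_cb : ∀ z ∈ cb, fn z = 0 := by
    intro z hz
    simp only [fn, map_sum]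
    exact Finset.sum_eq_zero fun i _ => qzero (E_mem (coord_mem s hz i)) _
  have hba : cb ⊓ (WI a : Ideal (WittVector p S)) • (⊤ : Submodule (WittVector p S) P') ≤ cb := inf_le_left
  have fn_congr : ∀ z z', z ∈ (WI a : Ideal (WittVector p S)) • (⊤ : Submodule (WittVector p S) P') →
      z' ∈ (WI a : Ideal (WittVector p S)) • (⊤ : Submodule (WittVector p S) P') → q z = q z' → fn z = fn z' := by
    intro z z' hz hz' h
    have hd : z - z' ∈ cb := (Submodule.Quotient.eq cb).1 h
    have := fn_add (z - z') z' (Submodule.sub_mem _ hz hz') hz'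
    rw [sub_add_cancel, fn_cb _ hd, zero_add] at this
    exact this
  have fn_mem : ∀ z, z ∈ (WI a : Ideal (WittVector p S)) • (⊤ : Submodule (WittVector p S) P') → fn z ∈ NN := fun z hz =>
    ⟨_, Submodule.sum_mem _ fun i _ => Submodule.smul_mem_smul (E_mem (coord_mem s hz i)) trivial, rfl⟩
  have rep_spec : ∀ y : NN, ∃ z, z ∈ (WI a : Ideal (WittVector p S)) • (⊤ : Submodule (WittVector p S) P') ∧ q z = (y : P' ⧸ cb) :=
    fun y => by obtain ⟨z, hz, h⟩ := y.2; exact ⟨z, hz, h⟩
  choose rep hrep1 hrep2 using rep_spec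
  let Vt : NN →ₛₗ[σ] NN :=
    { toFun := fun y => ⟨fn (rep y), fn_mem _ (hrep1 y)⟩
      map_add' := fun y y' => Subtype.ext (by
        show fn (rep (y + y')) = fn (rep y) + fn (rep y')
        rw [← fn_add _ _ (hrep1 y) (hrep1 y')]
        refine fn_congr _ _ (hrep1 _) (Submodule.add_mem _ (hrep1 y) (hrep1 y')) ?_
        rw [map_add, hrep2, hrep2, hrep2]; rfl)
      map_smul' := fun c y => Subtype.ext (by
        show fn (rep (c • y)) = σ c • fn (rep y)
        rw [← fn_smul _ _ (hrep1 y)]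
        refine fn_congr _ _ (hrep1 _) (Submodule.smul_mem _ c (hrep1 y)) ?_
        rw [map_smul, hrep2, hrep2]; rfl) }
  -- agreement with `V⁻¹`
  have key : ∀ z : D'.Q, (z : P') ∈ (WI a : Ideal (WittVector p S)) • (⊤ : Submodule (WittVector p S) P') →
      q (D'.Vinv z) = fn z := by
    intro z hz
    let c : Fin n → S := fun i => (s (z : P') i).coeff 0
    have hc : ∀ i, c i ∈ a := fun i => mem_WI.1 (coord_mem s hz i) 0
    let A₁ : Fin n → D'.Q := fun i => ⟨verschiebung (E (s (z : P') i)) • g i,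
      D'.IV_smul_le (Submodule.smul_mem_smul (W4c1extbt610.verschiebung_mem_IV p S _) Submodule.mem_top)⟩
    have hA₁ : D'.Vinv (∑ i, A₁ i) = ∑ i, E (s (z : P') i) • D'.F (g i) := by
      rw [map_sum]
      exact Finset.sum_congr rfl fun i _ => D'.Vinv_verschiebung_smul _ _
    have hw : ((z - ∑ i, A₁ i : D'.Q) : P') = ∑ i, teichmuller p (c i) • g i := by
      rw [Submodule.coe_sub, Submodule.coe_sum]
      refine ((congrArg (· - _) (hrep (z : P')).symm).trans (Finset.sum_sub_distrib _ _).symm).trans ?_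
      refine Finset.sum_congr rfl fun i _ => ?_
      show s _ i • g i - verschiebung (E (s (z : P') i)) • g i = _
      rw [← sub_smul, verschiebung_E, sub_sub_cancel]
    suffices hzero : q (D'.Vinv (z - ∑ i, A₁ i)) = 0 by
      rw [map_sub, map_sub, sub_eq_zero] at hzero
      rw [hzero, hA₁]
    obtain ⟨L, T, hLT, hQ⟩ := D'.exists_normal
    have hsplit : ∀ i, ∃ l ∈ L, ∃ t ∈ T, l + t = g i := fun i =>
      Submodule.mem_sup.1 (hLT.sup_eq_top ▸ Submodule.mem_top)
    choose l hl t ht hlt using hsplit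
    have hlQ : ∀ i, l i ∈ D'.Q := fun i => by rw [hQ]; exact Submodule.mem_sup_left (hl i)
    let A₂ : D'.Q := ∑ i, teichmuller p (c i) • (⟨l i, hlQ i⟩ : D'.Q)
    have hA₂ : q (D'.Vinv A₂) = 0 := by
      rw [map_sum, map_sum]
      refine Finset.sum_eq_zero fun i _ => ?_
      rw [LinearMap.map_smulₛₗ]
      exact qzero (frobenius_mem a b hsq hpa (teichmuller_mem (hc i))) _
    let A₃ : D'.Q := z - ∑ i, A₁ i - A₂
    have hA₃ : (A₃ : P') = ∑ i, teichmuller p (c i) • t i := by
      simp only [A₃, A₂, Submodule.coe_sub, Submodule.coe_sum, Submodule.coe_smul] at hw ⊢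
      rw [hw, ← Finset.sum_sub_distrib]
      exact Finset.sum_congr rfl fun i _ => by rw [← smul_sub, ← hlt i, add_sub_cancel_left]
    have hA₃T : (A₃ : P') ∈ T := hA₃ ▸ Submodule.sum_mem _ fun i _ => Submodule.smul_mem _ _ (ht i)
    have hA₃IV : (A₃ : P') ∈ W4c1extbt610.IV p S • (⊤ : Submodule (WittVector p S) P') := by
      have h1 : (A₃ : P') ∈ L ⊔ W4c1extbt610.IV p S • T := hQ ▸ A₃.2
      obtain ⟨l0, hl0, i0, hi0, e⟩ := Submodule.mem_sup.1 h1
      have hi0T : i0 ∈ T := Submodule.smul_le_right hi0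
      have : l0 = 0 := Submodule.disjoint_def.1 hLT.disjoint l0 hl0 (by
        rw [show l0 = (A₃ : P') - i0 from eq_sub_of_add_eq e]; exact T.sub_mem hA₃T hi0T)
      rw [this, zero_add] at e
      rw [← e]
      exact Submodule.smul_mono le_rfl le_top hi0
    let A₄ : Fin n → D'.Q := fun j => ⟨verschiebung (E (s (A₃ : P') j)) • g j,
      D'.IV_smul_le (Submodule.smul_mem_smul (W4c1extbt610.verschiebung_mem_IV p S _) Submodule.mem_top)⟩
    have hA₄ : A₃ = ∑ j, A₄ j := Subtype.ext (by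
      rw [Submodule.coe_sum]
      conv_lhs => rw [← hrep (A₃ : P')]
      exact Finset.sum_congr rfl fun j _ => by
        show _ = verschiebung (E (s (A₃ : P') j)) • g j
        rw [verschiebung_E_of_coeff_zero (coeff_zero_of_mem_IV (coord_mem s hA₃IV j))])
    have hA₄' : q (D'.Vinv A₃) = 0 := by
      rw [hA₄, map_sum, map_sum]
      refine Finset.sum_eq_zero fun j _ => ?_
      rw [show D'.Vinv (A₄ j) = E (s (A₃ : P') j) • D'.F (g j) from D'.Vinv_verschiebung_smul _ _]
      refine qzero (E_mem ?_) _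
      refine sum_teichmuller_mem a b hsq hpa Finset.univ c (fun i => s (t i) j) (fun i _ => hc i)
        (coeff_zero_of_mem_IV (coord_mem s hA₃IV j)) ?_
      rw [hA₃, map_sum, Finset.sum_apply]
      exact Finset.sum_congr rfl fun i _ => by rw [map_smul, Pi.smul_apply, smul_eq_mul, mul_comm]
    rw [show z - ∑ i, A₁ i = A₂ + A₃ from (add_sub_cancel _ _).symm, map_add, map_add, hA₂, hA₄', add_zero]
  let δb : P →ₗ[WittVector p S] NN := LinearMap.codRestrict NN (q ∘ₗ δ) fun x => ⟨δ x, hδ x, rfl⟩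
  have hVt : ∀ y : D.Q, Vt (δb y) = δb (D.Vinv y) := fun y => Subtype.ext (by
    show fn (rep (δb y)) = q (δ (D.Vinv y))
    rw [hδV, key ⟨δ y, hδQ y y.2⟩ (hδ y)]
    exact fn_congr _ _ (hrep1 _) (hδ y) (hrep2 _))
  intro x
  have hkill : ∀ r ∈ W4c1extbt610.IV p S ⊔ Ideal.span {(p : WittVector p S)}, ∀ y : NN, r • y = 0 := by
    intro r hr y
    obtain ⟨z, hz, hzy⟩ := y.2
    refine Subtype.ext ?_
    show r • (y : P' ⧸ cb) = 0
    rw [← hzy, ← map_smul]
    refine (Submodule.Quotient.mk_eq_zero cb).2 (Submodule.smul_induction_on hz (fun c hc v _ => ?_)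
      (fun u v hu hv => by rw [smul_add]; exact cb.add_mem hu hv))
    rw [smul_smul]
    obtain ⟨r1, hr1, r2, hr2, rfl⟩ := Submodule.mem_sup.1 hr
    obtain ⟨r2, rfl⟩ := Ideal.mem_span_singleton'.1 hr2
    refine Submodule.smul_mem_smul ?_ trivial
    rw [add_mul, mul_assoc]
    exact (WI b).add_mem (IV_mul_mem a b hsq hpa hr1 hc) ((WI b).mul_mem_left _ (natCast_mul_mem a b hsq hpa hc))
  have h0 : δb x = 0 := vanish_of_iterate hD Vt δb hVt hkill x
  exact (Submodule.Quotient.mk_eq_zero cb).1 (congrArg Subtype.val h0)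

/-- Rigidity: a homomorphism of displays vanishing modulo a nilpotent ideal vanishes. -/
theorem rigid (hp : IsNilpotent (p : S)) (a : Ideal S) (ha : IsNilpotent a)
    {D : W4c1extbt610.Display3n p S P} (D' : W4c1extbt610.Display3n p S P') (hD : Dieu.IsDisplay D)
    (δ : P →ₗ[WittVector p S] P') (hδQ : ∀ q ∈ D.Q, δ q ∈ D'.Q)
    (hδV : ∀ q : D.Q, δ (D.Vinv q) = D'.Vinv ⟨δ q, hδQ q q.2⟩)
    (hδ : ∀ x, δ x ∈ (WI a : Ideal (WittVector p S)) • (⊤ : Submodule (WittVector p S) P')) : δ = 0 := by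
  let J := a ⊔ Ideal.span {(p : S)}
  let aj : ℕ → Ideal S := fun j => J ^ j * a
  have hstep : ∀ j x, δ x ∈ (WI (aj j) : Ideal (WittVector p S)) • (⊤ : Submodule (WittVector p S) P') := by
    intro j
    induction j with
    | zero => intro x; simpa [aj] using hδ x
    | succ j ih =>
      refine rigid_step (aj j) (aj (j + 1)) (fun x hx y hy => ?_) (fun x hx => ?_) D' hD δ hδQ hδV ih
      · show x * y ∈ J ^ (j + 1) * a
        rw [pow_succ', mul_assoc]
        exact Ideal.mul_mem_mul (show x ∈ J from Ideal.mem_sup_left ((Ideal.mul_le_right : J ^ j * a ≤ a) hx)) (show y ∈ J ^ j * a from hy)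
      · show (p : S) * x ∈ J ^ (j + 1) * a
        rw [pow_succ', mul_assoc]
        exact Ideal.mul_mem_mul (Ideal.mem_sup_right (Ideal.mem_span_singleton_self _)) hx
  obtain ⟨e, he⟩ := hp
  obtain ⟨m, hm⟩ := ha
  have hJ : J ^ (m + e) = ⊥ := le_bot_iff.1 ((Ideal.sup_pow_add_le_pow_sup_pow).trans (by
    rw [hm, Ideal.span_singleton_pow, he]; simp))
  refine LinearMap.ext fun x => ?_
  have h := hstep (m + e) x
  simp only [aj, hJ, Ideal.bot_mul] at h
  have hb : (WI (⊥ : Ideal S) : Ideal (WittVector p S)) = ⊥ := by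
    refine le_bot_iff.1 fun z hz => Ideal.mem_bot.2 (WittVector.ext fun i => ?_)
    rw [WittVector.zero_coeff]; exact Ideal.mem_bot.1 (mem_WI.1 hz i)
  rw [hb, Submodule.bot_smul, Submodule.mem_bot] at h
  exact h

end Rigid

end Groth.Agent.DispRig
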