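import Mathlib
import Groth.Prelude.Def_Disp2
import Groth.Agent.H4Easy.Batch42
import Groth.Agent.H4Easy.Batch44

/-! The nilpotence criterion of a 3n-display in terms of the inverse structure matrix. -/

set_option autoImplicit false

open WittVector Finset

universe u v w

noncomputable section

namespace Groth.Agent.DispRig

variable {p : ℕ} [Fact p.Prime] {R : Type u} [CommRing R]


/-- `(WittVector p R)(R) → R/pR`. -/
abbrev qmap (p : ℕ) [Fact p.Prime] (R : Type u) [CommRing R] :
    WittVector p R →+* R ⧸ Ideal.span {(p : R)} :=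
  (Ideal.Quotient.mk _).comp WittVector.constantCoeff

theorem qmap_eq_zero_iff (a : (WittVector p R)) :
    qmap p R a = 0 ↔ a ∈ W4c1extbt610.IV p R ⊔ Ideal.span {(p : (WittVector p R))} := by
  constructor
  · intro h
    obtain ⟨r, hr⟩ := Ideal.mem_span_singleton.1 (Ideal.Quotient.eq_zero_iff_mem.1 h)
    refine Submodule.mem_sup.2 ⟨a - (p : (WittVector p R)) * teichmuller p r, ?_, (p : (WittVector p R)) * teichmuller p r,
      Ideal.mem_span_singleton.2 ⟨_, rfl⟩, sub_add_cancel _ _⟩
    have h0 : (a - (p : (WittVector p R)) * teichmuller p r).coeff 0 = 0 := by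
      show WittVector.constantCoeff (a - (p : (WittVector p R)) * teichmuller p r) = 0
      rw [map_sub, map_mul, map_natCast]
      show a.coeff 0 - (p : R) * (teichmuller p r).coeff 0 = 0
      rw [teichmuller_coeff_zero, sub_eq_zero]
      exact hr
    rw [← Groth.Agent.H4Easy.verschiebung_shift_of_coeff_zero h0]
    exact W4c1extbt610.verschiebung_mem_IV p R _
  · intro h
    have hker : W4c1extbt610.IV p R ⊔ Ideal.span {(p : (WittVector p R))} ≤ RingHom.ker (qmap p R) := by
      refine sup_le (Ideal.span_le.2 ?_) (Ideal.span_le.2 ?_)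
      · rintro _ ⟨w, rfl⟩
        show Ideal.Quotient.mk _ ((WittVector.verschiebung w).coeff 0) = 0
        rw [WittVector.verschiebung_coeff_zero, map_zero]
      · rintro _ rfl
        show qmap p R (p : (WittVector p R)) = 0
        rw [map_natCast, ← map_natCast (Ideal.Quotient.mk (Ideal.span {(p : R)})),
          Ideal.Quotient.eq_zero_iff_mem]
        exact Ideal.mem_span_singleton_self _
    exact hker h

theorem qmap_frobenius (a : (WittVector p R)) : qmap p R ((WittVector.frobenius : WittVector p R →+* WittVector p R) a) = qmap p R a ^ p := by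
  show Ideal.Quotient.mk _ (((WittVector.frobenius : WittVector p R →+* WittVector p R) a).coeff 0) = _
  have h := WittVector.ghostComponent_frobenius 0 a
  rw [WittVector.ghostComponent_apply, WittVector.ghostComponent_apply, wittPolynomial_zero,
    wittPolynomial_one] at h
  simp only [MvPolynomial.aeval_X, map_add, map_mul, map_pow, map_natCast] at h
  rw [h, map_add, map_mul, Ideal.Quotient.eq_zero_iff_mem.2 (Ideal.mem_span_singleton_self (p : R)), zero_mul,
    zero_add, map_pow]
  rfl

/-- The `p`-th power ring endomorphism of `R/pR`. -/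
def frobQ (p : ℕ) [hp : Fact p.Prime] (R : Type u) [CommRing R] :
    R ⧸ Ideal.span {(p : R)} →+* R ⧸ Ideal.span {(p : R)} where
  toFun x := x ^ p
  map_one' := one_pow p
  map_mul' x y := mul_pow x y p
  map_zero' := zero_pow hp.out.ne_zero
  map_add' x y := by
    obtain ⟨r, hr⟩ := exists_add_pow_prime_eq hp.out x y
    have hp0 : (p : R ⧸ Ideal.span {(p : R)}) = 0 := by
      rw [← map_natCast (Ideal.Quotient.mk (Ideal.span {(p : R)})), Ideal.Quotient.eq_zero_iff_mem]
      exact Ideal.mem_span_singleton_self _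
    rw [hr, hp0]
    ring

/-- `B^(p^(N-1)) ⋯ B^(p) B`. -/
theorem twistedProd_succ {n : Type w} [Fintype n] [DecidableEq n]
    (B : Matrix n n (R ⧸ Ideal.span {(p : R)})) (N : ℕ) :
    ((List.range (N + 1)).reverse.map fun i : ℕ => B.map fun x => x ^ p ^ i).prod =
      (((List.range N).reverse.map fun i : ℕ => B.map fun x => x ^ p ^ i).prod).map (frobQ p R) * B := by
  induction N with
  | zero =>
    simp only [List.range_one, List.reverse_singleton, List.map_cons, List.map_nil, List.prod_cons,
      List.prod_nil, mul_one, List.range_zero, List.reverse_nil]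
    rw [Matrix.map_one _ (map_zero _) (map_one _), one_mul]
    ext i j
    simp
  | succ N ih =>
    have hsucc : ∀ M : ℕ, ((List.range (M + 1)).reverse.map fun i : ℕ => B.map fun x => x ^ p ^ i).prod =
        (B.map fun x => x ^ p ^ M) * ((List.range M).reverse.map fun i : ℕ => B.map fun x => x ^ p ^ i).prod :=
      fun M => by
        rw [List.range_succ, List.reverse_append, List.reverse_singleton, List.singleton_append, List.map_cons,
          List.prod_cons]
    have hrhs := congrArg (fun X => Matrix.map X (frobQ p R)) (hsucc N)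
    rw [hsucc (N + 1), hrhs, ih, Matrix.map_mul, ← mul_assoc]
    congr 2
    ext i j
    show B i j ^ p ^ (N + 1) = (B i j ^ p ^ N) ^ p
    rw [← pow_mul, pow_succ]

section coord

variable {P : Type v} [AddCommGroup P] [Module (WittVector p R) P] {ι : Type w} (b : Module.Basis ι (WittVector p R) P) (g : (WittVector p R) →+* (WittVector p R))

/-- Coordinate on a twist. -/
def tCoord (i : ι) : Dieu.BC g P →ₗ[(WittVector p R)] (WittVector p R) :=
  Dieu.BC.lift g ((Dieu.semilinearOfRingHom g).comp (b.coord i))

@[simp] theorem tCoord_tmul (i : ι) (c : (WittVector p R)) (x : P) :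
    tCoord b g i (Dieu.BC.tmul g c x) = c * g (b.coord i x) := by
  rw [tCoord, Dieu.BC.lift_tmul]
  rfl

theorem sum_tCoord [Fintype ι] (z : Dieu.BC g P) :
    ∑ i, tCoord b g i z • Dieu.BC.tmul g 1 (b i) = z := by
  induction z using Dieu.BC.induction_on g with
  | zero => simp
  | tmul c x =>
    simp only [tCoord_tmul, Dieu.BC.smul_tmul, mul_one, Dieu.BC.tmul_mul_apply, Module.Basis.coord_apply]
    refine (map_sum (AddMonoidHom.mk' (fun y => Dieu.BC.tmul g c y) (Dieu.BC.tmul_add g c)) _ _).symm.trans ?_
    rw [b.sum_repr]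
    rfl
  | add a c ha hc => simp only [map_add, add_smul, Finset.sum_add_distrib, ha, hc]

theorem mem_smul_top_iff [Fintype ι] (z : Dieu.BC g P) :
    z ∈ (W4c1extbt610.IV p R ⊔ Ideal.span {(p : (WittVector p R))}) • (⊤ : Submodule (WittVector p R) (Dieu.BC g P)) ↔
      ∀ i, qmap p R (tCoord b g i z) = 0 := by
  simp only [qmap_eq_zero_iff]
  constructor
  · intro hz i
    refine Submodule.smul_induction_on hz (fun a ha y _ => ?_) (fun x y hx hy => ?_)
    · rw [map_smul, smul_eq_mul]
      exact Ideal.mul_mem_right _ _ ha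
    · rw [map_add]
      exact add_mem hx hy
  · intro h
    rw [← sum_tCoord b g z]
    exact sum_mem fun i _ => Submodule.smul_mem_smul (h i) Submodule.mem_top

end coord

variable {P : Type v} [AddCommGroup P] [Module (WittVector p R) P] {ι : Type w} [Fintype ι] (b : Module.Basis ι (WittVector p R) P)

theorem tCoord_castHom {g g' : (WittVector p R) →+* (WittVector p R)} (e : g = g') (i : ι) (z : Dieu.BC g P) :
    tCoord b g' i (Dieu.BC.castHom e z) = tCoord b g i z := by
  subst e
  rfl

theorem tCoord_push (g : (WittVector p R) →+* (WittVector p R)) (i : ι) (z : Dieu.BC g P) :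
    tCoord b (RingHom.comp (WittVector.frobenius : WittVector p R →+* WittVector p R) g) i (Dieu.BC.push g (WittVector.frobenius : WittVector p R →+* WittVector p R) z) = (WittVector.frobenius : WittVector p R →+* WittVector p R) (tCoord b g i z) := by
  induction z using Dieu.BC.induction_on g with
  | zero => simp
  | tmul c x => rw [Dieu.BC.push_tmul, tCoord_tmul, tCoord_tmul, map_mul, RingHom.comp_apply]
  | add a c ha hc => simp only [map_add, ha, hc]

/-- Reduced coordinates of the iterates of `V^#`. -/
def red (Vs : P →ₗ[(WittVector p R)] Dieu.BC (WittVector.frobenius : WittVector p R →+* WittVector p R) P) (n : ℕ) (i : ι) (x : P) : R ⧸ Ideal.span {(p : R)} :=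
  qmap p R (tCoord b ((WittVector.frobenius : WittVector p R →+* WittVector p R) ^ (n + 1)) i (Dieu.vSharpPow Vs n x))

theorem isVNilpotent_iff_red (Vs : P →ₗ[(WittVector p R)] Dieu.BC (WittVector.frobenius : WittVector p R →+* WittVector p R) P) :
    Dieu.IsVNilpotent Vs ↔ ∃ n, ∀ i j, red b Vs n i (b j) = 0 := by
  refine exists_congr fun n => ⟨fun h i j => (mem_smul_top_iff b _ _).1 (h (b j)) i, fun h x => ?_⟩
  refine (mem_smul_top_iff b _ _).2 fun i => ?_
  rw [← b.sum_repr x]
  simp only [map_sum, map_smul, smul_eq_mul, map_mul]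
  exact Finset.sum_eq_zero fun j _ => by rw [show qmap p R _ = red b Vs n i (b j) from rfl, h i j, mul_zero]

theorem red_zero (Vs : P →ₗ[(WittVector p R)] Dieu.BC (WittVector.frobenius : WittVector p R →+* WittVector p R) P) (i : ι) (x : P) :
    red b Vs 0 i x = qmap p R (tCoord b (WittVector.frobenius : WittVector p R →+* WittVector p R) i (Vs x)) := by
  rw [red, Dieu.vSharpPow_zero_apply, tCoord_castHom]

theorem red_succ (Vs : P →ₗ[(WittVector p R)] Dieu.BC (WittVector.frobenius : WittVector p R →+* WittVector p R) P) (n : ℕ) (i : ι) (x : P) :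
    red b Vs (n + 1) i x = ∑ j, red b Vs n i (b j) ^ p * qmap p R (tCoord b (WittVector.frobenius : WittVector p R →+* WittVector p R) j (Vs x)) := by
  rw [red, Dieu.vSharpPow_succ_apply, tCoord_castHom]
  conv_lhs => rw [← sum_tCoord b (WittVector.frobenius : WittVector p R →+* WittVector p R) (Vs x)]
  simp only [map_sum, map_smul, Dieu.BC.map_tmul, Dieu.BC.lift_tmul, one_smul, smul_eq_mul, map_mul,
    tCoord_push, qmap_frobenius]
  exact Finset.sum_congr rfl fun j _ => mul_comm _ _

theorem isDisplay_iff_twistedProd (hp : IsNilpotent (p : R)) (D : W4c1extbt610.Display3n p R P)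
    (L T : Submodule (WittVector p R) P) (hLT : IsCompl L T) (hLQ : L ≤ D.Q)
    (ιT ιL : Type w) [Fintype ιT] [Fintype ιL] [DecidableEq ιT] [DecidableEq ιL]
    (bT : Module.Basis ιT (WittVector p R) T) (bL : Module.Basis ιL (WittVector p R) L)
    (α β : Matrix (ιT ⊕ ιL) (ιT ⊕ ιL) (WittVector p R)) (hαβ : α * β = 1)
    (hF : ∀ j : ιT, D.F (bT j : P) =
      Finset.univ.sum fun i : ιT ⊕ ιL => α i (Sum.inl j) • Sum.elim (fun a : ιT => (bT a : P)) (fun a : ιL => (bL a : P)) i)
    (hV : ∀ k : ιL, D.Vinv ⟨(bL k : P), hLQ (bL k).2⟩ =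
      Finset.univ.sum fun i : ιT ⊕ ιL => α i (Sum.inr k) • Sum.elim (fun a : ιT => (bT a : P)) (fun a : ιL => (bL a : P)) i) :
    Dieu.IsDisplay D ↔
      ∃ N : ℕ, 0 < N ∧
        (((List.range N).reverse.map fun i : ℕ =>
            (Matrix.of fun k l : ιL =>
                Ideal.Quotient.mk (Ideal.span {(p : R)}) (WittVector.constantCoeff (β (Sum.inr k) (Sum.inr l)))).map
              fun x : R ⧸ Ideal.span {(p : R)} => x ^ p ^ i).prod
          = 0) := by
  let b : Module.Basis (ιT ⊕ ιL) (WittVector p R) P :=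
    (bT.prod bL).map (Submodule.prodEquivOfIsCompl T L hLT.symm)
  let e : ιT ⊕ ιL → P := Sum.elim (fun a : ιT => (bT a : P)) (fun a : ιL => (bL a : P))
  have hb : ∀ i, b i = e i := by
    rintro (i | i) <;> simp [b, e, Module.Basis.prod_apply]
  let f : ιT ⊕ ιL → P := Sum.elim (fun a : ιT => D.F (bT a)) (fun a : ιL => D.Vinv ⟨(bL a : P), hLQ (bL a).2⟩)
  have hf : ∀ j, f j = ∑ i, α i j • e i := by
    rintro (j | j)
    exacts [hF j, hV j]
  have he : ∀ i, e i = ∑ j, β j i • f j := by
    intro i
    simp only [hf, Finset.smul_sum, smul_smul]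
    rw [Finset.sum_comm]
    simp only [← Finset.sum_smul]
    have : ∀ m, (∑ j, β j i * α m j) = (1 : Matrix (ιT ⊕ ιL) (ιT ⊕ ιL) (WittVector p R)) m i := fun m => by
      rw [← hαβ, Matrix.mul_apply]
      exact Finset.sum_congr rfl fun j _ => mul_comm _ _
    simp [this, Matrix.one_apply]
  have hVs : ∀ Vs : P →ₗ[(WittVector p R)] Dieu.BC (WittVector.frobenius : WittVector p R →+* WittVector p R) P, Dieu.IsVSharp D Vs →
      (∀ (a : ιT) j, qmap p R (tCoord b (WittVector.frobenius : WittVector p R →+* WittVector p R) (Sum.inl a) (Vs (b j))) = 0) ∧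
      (∀ (k : ιL) j, qmap p R (tCoord b (WittVector.frobenius : WittVector p R →+* WittVector p R) (Sum.inr k) (Vs (b j))) = qmap p R (β (Sum.inr k) j)) := by
    intro Vs hVs
    have hT : ∀ t : ιT, Vs (D.F (bT t)) = (p : (WittVector p R)) • Dieu.BC.tmul (WittVector.frobenius : WittVector p R →+* WittVector p R) 1 (b (Sum.inl t)) := fun t => by
      have := hVs.app_smul_F 1 (bT t : P)
      rw [one_smul] at this
      rw [this, hb]
      rfl
    have hL : ∀ k : ιL, Vs (D.Vinv ⟨(bL k : P), hLQ (bL k).2⟩) = Dieu.BC.tmul (WittVector.frobenius : WittVector p R →+* WittVector p R) 1 (b (Sum.inr k)) := fun k => by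
      have := hVs.app_smul_Vinv 1 ⟨(bL k : P), hLQ (bL k).2⟩
      rw [one_smul] at this
      rw [this, hb]
      rfl
    have hp0 : qmap p R (p : (WittVector p R)) = 0 :=
      (qmap_eq_zero_iff _).2 (Submodule.mem_sup_right (Ideal.mem_span_singleton_self _))
    have key : ∀ m j, qmap p R (tCoord b (WittVector.frobenius : WittVector p R →+* WittVector p R) m (Vs (b j))) =
        ∑ k : ιL, qmap p R (β (Sum.inr k) j) * (if m = Sum.inr k then 1 else 0) := by
      intro m j
      rw [hb, he, Fintype.sum_sum_type]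
      simp only [map_add, map_sum, map_smul, f, Sum.elim_inl, Sum.elim_inr, hT, hL, smul_eq_mul, map_mul,
        hp0, zero_mul, mul_zero, Finset.sum_const_zero, zero_add, tCoord_tmul, one_mul,
        Module.Basis.coord_apply, Module.Basis.repr_self, Finsupp.single_apply]
      refine Finset.sum_congr rfl fun k _ => ?_
      by_cases h : m = Sum.inr k
      · subst h; simp
      · rw [if_neg (Ne.symm h), if_neg h]; simp
    refine ⟨fun a j => ?_, fun k j => ?_⟩
    · rw [key]; simp
    · rw [key]; simp
  set B : Matrix ιL ιL (R ⧸ Ideal.span {(p : R)}) := Matrix.of fun k l : ιL =>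
    Ideal.Quotient.mk (Ideal.span {(p : R)}) (WittVector.constantCoeff (β (Sum.inr k) (Sum.inr l))) with hB
  have main : ∀ Vs : P →ₗ[(WittVector p R)] Dieu.BC (WittVector.frobenius : WittVector p R →+* WittVector p R) P, Dieu.IsVSharp D Vs → ∀ n,
      (∀ (a : ιT) x, red b Vs n (Sum.inl a) (b x) = 0) ∧
      (∀ k l : ιL, red b Vs n (Sum.inr k) (b (Sum.inr l)) =
        ((List.range (n + 1)).reverse.map fun i : ℕ => B.map fun x => x ^ p ^ i).prod k l) := by
    intro Vs h n
    obtain ⟨h1, h2⟩ := hVs Vs h
    induction n with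
    | zero =>
      refine ⟨fun a x => by rw [red_zero, h1], fun k l => ?_⟩
      rw [red_zero, h2]
      simp [hB]
    | succ n ih =>
      refine ⟨fun a x => ?_, fun k l => ?_⟩
      · rw [red_succ]
        simp [ih.1, zero_pow (Fact.out : p.Prime).ne_zero]
      · rw [red_succ, Fintype.sum_sum_type, twistedProd_succ, Matrix.mul_apply]
        simp only [h1, mul_zero, Finset.sum_const_zero, zero_add, h2, ih.2]
        rfl
  constructor
  · rintro ⟨Vs, h, hn⟩
    obtain ⟨n, hn⟩ := (isVNilpotent_iff_red b Vs).1 hn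
    exact ⟨n + 1, Nat.succ_pos _, Matrix.ext fun k l => by rw [← (main Vs h n).2, hn]; rfl⟩
  · rintro ⟨_ | N, hN, h0⟩
    · exact absurd hN (lt_irrefl 0)
    obtain ⟨Vs, h, -⟩ := Groth.Agent.H4Easy.existsUnique_vSharp hp D
    refine ⟨Vs, h, (isVNilpotent_iff_red b Vs).2 ⟨N + 1, fun i j => ?_⟩⟩
    rcases i with a | k
    · exact (main Vs h (N + 1)).1 a j
    · rw [red_succ, Fintype.sum_sum_type]
      simp only [(hVs Vs h).1, mul_zero, Finset.sum_const_zero, zero_add, (main Vs h N).2, h0,
        Matrix.zero_apply, zero_pow (Fact.out : p.Prime).ne_zero, zero_mul]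

end Groth.Agent.DispRig
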