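import Groth.Agent.DispLift.Hom
import Groth.Prelude.Def_W4c1extbt610Disp
import Mathlib.RingTheory.WittVector.Domain
import Mathlib.Algebra.TrivSqZeroExt.Basic
import Mathlib

/-! Witt vectors over an ideal which squares to zero and is killed by `p`. -/

set_option autoImplicit false

universe u

namespace Groth.Agent.DispRig

open WittVector

variable {p : ℕ} [Fact p.Prime]

/-- Witt vectors with coefficients in an ideal. -/
noncomputable def WI {T : Type u} [CommRing T] (a : Ideal T) : Ideal (WittVector p T) :=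
  RingHom.ker (WittVector.map (p := p) (Ideal.Quotient.mk a))

theorem mem_WI {T : Type u} [CommRing T] {a : Ideal T} {x : WittVector p T} :
    x ∈ WI a ↔ ∀ n, x.coeff n ∈ a := by
  simp only [WI, RingHom.mem_ker, WittVector.ext_iff, WittVector.map_coeff, WittVector.zero_coeff,
    Ideal.Quotient.eq_zero_iff_mem]

theorem teichmuller_mem {T : Type u} [CommRing T] {a : Ideal T} {x : T} (h : x ∈ a) : teichmuller p x ∈ WI a :=
  mem_WI.2 fun n => by
    rcases n with _ | n
    · rwa [teichmuller_coeff_zero]
    · rw [teichmuller_coeff_pos p _ _ n.succ_pos]; exact a.zero_mem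

/-- strip the Teichmüller part and divide by `V`. -/
noncomputable def E {T : Type u} [CommRing T] (x : WittVector p T) : WittVector p T :=
  (x - teichmuller p (x.coeff 0)).shift 1

variable {T : Type u} [CommRing T]

theorem sub_teichmuller_coeff_zero (x : WittVector p T) : (x - teichmuller p (x.coeff 0)).coeff 0 = 0 := by
  show constantCoeff (x - teichmuller p (x.coeff 0)) = 0
  rw [map_sub]
  exact sub_eq_zero.2 (teichmuller_coeff_zero p _).symm

theorem verschiebung_E (x : WittVector p T) : verschiebung (E x) = x - teichmuller p (x.coeff 0) := by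
  have h := WittVector.eq_iterate_verschiebung (x := x - teichmuller p (x.coeff 0)) (n := 1) fun i hi => by
    obtain rfl : i = 0 := by omega
    exact sub_teichmuller_coeff_zero x
  simpa using! h.symm

theorem map_E {T' : Type u} [CommRing T'] (φ : T →+* T') (x : WittVector p T) :
    WittVector.map φ (E x) = E (WittVector.map φ x) := by
  refine verschiebung_injective p T' ?_
  rw [← map_verschiebung, verschiebung_E, verschiebung_E, map_sub, map_teichmuller, WittVector.map_coeff]

theorem E_zero : E (0 : WittVector p T) = 0 := by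
  refine verschiebung_injective p T ?_
  rw [verschiebung_E, WittVector.zero_coeff, teichmuller_zero, map_zero, sub_zero]

theorem E_mem {a : Ideal T} {x : WittVector p T} (hx : x ∈ WI a) : E x ∈ WI a :=
  mem_WI.2 fun n => by
    rw [E, shift_coeff]
    exact mem_WI.1 ((WI a).sub_mem hx (teichmuller_mem (mem_WI.1 hx 0))) _

theorem coeff_zero_of_mem_IV {x : WittVector p T} (hx : x ∈ W4c1extbt610.IV p T) : x.coeff 0 = 0 := by
  show constantCoeff x = 0
  induction hx using Submodule.span_induction with
  | mem y hy => obtain ⟨w, rfl⟩ := hy; exact verschiebung_coeff_zero w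
  | zero => exact map_zero _
  | add y z _ _ hy hz => rw [map_add, hy, hz, add_zero]
  | smul c y _ hy => rw [smul_eq_mul, map_mul, hy, mul_zero]

theorem verschiebung_E_of_coeff_zero {x : WittVector p T} (hx : x.coeff 0 = 0) : verschiebung (E x) = x := by
  rw [verschiebung_E, hx, teichmuller_zero, sub_zero]

section Square

variable {a : Ideal T} (hsq : ∀ x ∈ a, ∀ y ∈ a, x * y = 0) (hpa : ∀ x ∈ a, (p : T) * x = 0)
include hsq hpa

theorem frobenius_eq_zero {x : WittVector p T} (hx : x ∈ WI a) : frobenius x = 0 := by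
  refine WittVector.ext fun n => ?_
  have h := DispLift.frobenius_coeff_sub_mem a x (mem_WI.1 hx) n
  have h0 : Ideal.span {(p : T)} * a = ⊥ := by
    rw [eq_bot_iff, Ideal.mul_le]
    intro r hr s hs
    obtain ⟨c, rfl⟩ := Ideal.mem_span_singleton'.1 hr
    rw [mul_assoc, hpa s hs, mul_zero]
    exact zero_mem _
  rw [h0, Ideal.mem_bot, sub_eq_zero] at h
  obtain ⟨q, hq⟩ : ∃ q, p = q + 1 + 1 := ⟨p - 2, by have := (Fact.out : p.Prime).two_le; omega⟩
  rw [h, WittVector.zero_coeff, show x.coeff n ^ p = x.coeff n ^ q * (x.coeff n * x.coeff n) by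
    rw [← mul_assoc, ← pow_succ, ← pow_succ]; exact congrArg _ hq, hsq _ (mem_WI.1 hx n) _ (mem_WI.1 hx n), mul_zero]

theorem natCast_mul_eq_zero {x : WittVector p T} (hx : x ∈ WI a) : (p : WittVector p T) * x = 0 := by
  rw [mul_comm, ← frobenius_verschiebung]
  refine frobenius_eq_zero hsq hpa (mem_WI.2 fun n => ?_)
  rcases n with _ | n
  · rw [verschiebung_coeff_zero]; exact a.zero_mem
  · rw [verschiebung_coeff_succ]; exact mem_WI.1 hx n

theorem verschiebung_mul_eq_zero (u : WittVector p T) {x : WittVector p T} (hx : x ∈ WI a) :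
    verschiebung u * x = 0 := by
  rw [← verschiebung_mul_frobenius, frobenius_eq_zero hsq hpa hx, mul_zero, map_zero]

omit hpa in
theorem teichmuller_add {x y : T} (hx : x ∈ a) (hy : y ∈ a) :
    teichmuller p (x + y) = teichmuller p x + teichmuller p y := by
  let f : ℤ × ℤ →ₗ[ℤ] T := (LinearMap.toSpanSingleton ℤ T x).coprod (LinearMap.toSpanSingleton ℤ T y)
  have hf : ∀ m m', f m * f m' = 0 := fun m m' => by
    simp only [f, LinearMap.coprod_apply, LinearMap.toSpanSingleton_apply, zsmul_eq_mul]
    linear_combination (m.1 * m'.1 : T) * hsq x hx x hx + (m.1 * m'.2 + m.2 * m'.1 : T) * hsq x hx y hy +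
      (m.2 * m'.2 : T) * hsq y hy y hy
  let φ : TrivSqZeroExt ℤ (ℤ × ℤ) →+* T :=
    (TrivSqZeroExt.lift (Algebra.ofId ℤ T) f hf (fun r m => by
      rw [map_smul, Algebra.smul_def]; rfl) (fun r m => by
      rw [op_smul_eq_smul, map_smul, Algebra.smul_def, mul_comm]; rfl)).toRingHom
  have hφ : ∀ m, φ (TrivSqZeroExt.inr m) = f m := fun m => by
    show TrivSqZeroExt.lift _ f _ _ _ (TrivSqZeroExt.inr m) = f m
    rw [TrivSqZeroExt.lift_apply_inr]
  let ψ : TrivSqZeroExt ℤ (ℤ × ℤ) →+* TrivSqZeroExt ℚ (ℚ × ℚ) :=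
    { toFun := fun z => (((TrivSqZeroExt.fst z : ℤ) : ℚ), (((TrivSqZeroExt.snd z).1 : ℚ), ((TrivSqZeroExt.snd z).2 : ℚ)))
      map_one' := by ext <;> simp
      map_zero' := by ext <;> simp
      map_mul' := fun u v => by
        ext <;> simp [mul_comm]
      map_add' := fun u v => by ext <;> simp }
  have hψ : Function.Injective ψ := fun u v h => by
    have h1 := congrArg TrivSqZeroExt.fst h
    have h2 := congrArg TrivSqZeroExt.snd h
    simp only [ψ, RingHom.coe_mk, MonoidHom.coe_mk, OneHom.coe_mk] at h1 h2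
    refine TrivSqZeroExt.ext (Int.cast_injective h1) (Prod.ext (Int.cast_injective (congrArg Prod.fst h2 :))
      (Int.cast_injective (congrArg Prod.snd h2 :)))
  haveI : Invertible (p : TrivSqZeroExt ℚ (ℚ × ℚ)) :=
    (@Invertible.map _ _ _ _ _ _ _ (algebraMap ℚ (TrivSqZeroExt ℚ (ℚ × ℚ))) (p : ℚ) (invertibleOfNonzero
      (Nat.cast_ne_zero.2 (Fact.out : p.Prime).ne_zero))).copy _ (map_natCast _ _).symm
  have key : ∀ u v : ℤ × ℤ, teichmuller p (TrivSqZeroExt.inr (u + v) : TrivSqZeroExt ℤ (ℤ × ℤ)) =
      teichmuller p (TrivSqZeroExt.inr u) + teichmuller p (TrivSqZeroExt.inr v) := fun u v => by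
    refine WittVector.map_injective ψ hψ ((WittVector.ghostMap.bijective_of_invertible p _).1 (funext fun n => ?_))
    simp only [map_add, map_teichmuller, Pi.add_apply, ghostMap_apply, ghostComponent_teichmuller]
    rw [← map_pow, ← map_pow, ← map_pow, ← map_add]
    congr 1
    rcases n with _ | n
    · simp [TrivSqZeroExt.inr_add]
    · obtain ⟨q, hq⟩ : ∃ q, p ^ (n + 1) = q + 1 + 1 :=
        ⟨p ^ (n + 1) - 2, by
          have h1 := (Fact.out : p.Prime).two_le
          have h2 : p ≤ p ^ (n + 1) := Nat.le_self_pow n.succ_ne_zero p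
          omega⟩
      have : ∀ w : ℤ × ℤ, (TrivSqZeroExt.inr w : TrivSqZeroExt ℤ (ℤ × ℤ)) ^ p ^ (n + 1) = 0 := fun w => by
        rw [hq, pow_succ, pow_succ, mul_assoc, TrivSqZeroExt.inr_mul_inr, mul_zero]
      rw [this, this, this, add_zero]
  have h := congrArg (WittVector.map φ) (key (1, 0) (0, 1))
  rw [map_add, map_teichmuller, map_teichmuller, map_teichmuller, hφ, hφ, hφ] at h
  simpa [f] using h

theorem E_add {x y : WittVector p T} (hx : x ∈ WI a) (hy : y ∈ WI a) : E (x + y) = E x + E y := by
  refine verschiebung_injective p T ?_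
  rw [map_add, verschiebung_E, verschiebung_E, verschiebung_E,
    show (x + y).coeff 0 = x.coeff 0 + y.coeff 0 from map_add constantCoeff x y,
    teichmuller_add hsq (mem_WI.1 hx 0) (mem_WI.1 hy 0)]
  ring

theorem mul_teichmuller (u : WittVector p T) {c : T} (hc : c ∈ a) :
    u * teichmuller p c = teichmuller p (u.coeff 0 * c) := by
  have h : u = teichmuller p (u.coeff 0) + verschiebung (E u) := by rw [verschiebung_E]; ring
  conv_lhs => rw [h]
  rw [add_mul, verschiebung_mul_eq_zero hsq hpa _ (teichmuller_mem hc), add_zero, ← map_mul]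

theorem E_mul (u : WittVector p T) {x : WittVector p T} (hx : x ∈ WI a) : E (u * x) = frobenius u * E x := by
  refine verschiebung_injective p T ?_
  rw [mul_comm (frobenius u), verschiebung_mul_frobenius, verschiebung_E, verschiebung_E,
    show (u * x).coeff 0 = u.coeff 0 * x.coeff 0 from map_mul constantCoeff u x,
    ← mul_teichmuller hsq hpa u (mem_WI.1 hx 0)]
  ring

theorem sum_teichmuller_mul {ι : Type*} (s : Finset ι) (c : ι → T) (u : ι → WittVector p T) (hc : ∀ i ∈ s, c i ∈ a) :
    ∑ i ∈ s, u i * teichmuller p (c i) = teichmuller p (∑ i ∈ s, (u i).coeff 0 * c i) := by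
  induction s using Finset.cons_induction with
  | empty => simp
  | cons i s hi ih =>
    rw [Finset.sum_cons, Finset.sum_cons, mul_teichmuller hsq hpa _ (hc i (Finset.mem_cons_self i s)),
      ih (fun j hj => hc j (Finset.mem_cons_of_mem hj)), teichmuller_add hsq]
    · exact a.mul_mem_left _ (hc i (Finset.mem_cons_self i s))
    · exact a.sum_mem fun j hj => a.mul_mem_left _ (hc j (Finset.mem_cons_of_mem hj))

end Square

end Groth.Agent.DispRig
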